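import Mathlib

/-! Binary actions on cosets, in terms of representatives. -/

set_option autoImplicit false

namespace Cfsg.Agent.Lib.SuzukiBinary

variable {G : Type*} [Group G]

/-- The action on the cosets of `H` is binary, stated on representatives. -/
def BinR (H : Subgroup G) : Prop :=
  ∀ (n : ℕ) (I J : Fin n → G), 2 ≤ n →
    (∀ i j : Fin n, i ≠ j → ∃ g : G, (J i)⁻¹ * g * I i ∈ H ∧ (J j)⁻¹ * g * I j ∈ H) →
    ∃ g : G, ∀ i, (J i)⁻¹ * g * I i ∈ H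

theorem smul_eq_iff {H : Subgroup G} (g x y : G) :
    g • (x : G ⧸ H) = (y : G ⧸ H) ↔ y⁻¹ * g * x ∈ H := by
  rw [MulAction.Quotient.smul_coe, smul_eq_mul, eq_comm, QuotientGroup.eq, mul_assoc]

theorem binR_iff (H : Subgroup G) :
    (∀ (n : ℕ) (I J : Fin n → G ⧸ H), 2 ≤ n →
        (∀ i j : Fin n, i ≠ j → ∃ g : G, g • I i = J i ∧ g • I j = J j) → ∃ g : G, ∀ i, g • I i = J i) ↔
      BinR H := by
  constructor
  · intro hb n I J hn hp
    obtain ⟨g, hg⟩ := hb n (fun i => (I i : G ⧸ H)) (fun i => (J i : G ⧸ H)) hn fun i j hij => by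
      simpa only [smul_eq_iff] using hp i j hij
    exact ⟨g, fun i => (smul_eq_iff g (I i) (J i)).1 (hg i)⟩
  · intro hb n I J hn hp
    obtain ⟨g, hg⟩ := hb n (fun i => (I i).out) (fun i => (J i).out) hn fun i j hij => by
      obtain ⟨g, h1, h2⟩ := hp i j hij
      refine ⟨g, (smul_eq_iff _ _ _).1 ?_, (smul_eq_iff _ _ _).1 ?_⟩ <;>
        simpa only [QuotientGroup.out_eq']
    exact ⟨g, fun i => by simpa only [QuotientGroup.out_eq'] using (smul_eq_iff _ _ _).2 (hg i)⟩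

theorem BinR.map {G' : Type*} [Group G'] {H : Subgroup G} (hb : BinR H) (e : G ≃* G') :
    BinR (H.map e.toMonoidHom) := by
  intro n I J hn hp
  obtain ⟨g, hg⟩ := hb n (fun i => e.symm (I i)) (fun i => e.symm (J i)) hn fun i j hij => by
    obtain ⟨g, h1, h2⟩ := hp i j hij
    refine ⟨e.symm g, ?_, ?_⟩
    · obtain ⟨x, hx, ex⟩ := h1
      rw [← map_inv, ← map_mul, ← map_mul, ← ex]
      simpa using hx
    · obtain ⟨x, hx, ex⟩ := h2
      rw [← map_inv, ← map_mul, ← map_mul, ← ex]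
      simpa using hx
  refine ⟨e g, fun i => ⟨_, hg i, ?_⟩⟩
  simp

/-- Three points. -/
theorem BinR.three {H : Subgroup G} (hb : BinR H) (p q a b c : G)
    (h01 : ∃ g, a⁻¹ * g ∈ H ∧ b⁻¹ * g * p ∈ H) (h02 : ∃ g, a⁻¹ * g ∈ H ∧ c⁻¹ * g * q ∈ H)
    (h12 : ∃ g, b⁻¹ * g * p ∈ H ∧ c⁻¹ * g * q ∈ H) :
    ∃ g, a⁻¹ * g ∈ H ∧ b⁻¹ * g * p ∈ H ∧ c⁻¹ * g * q ∈ H := by
  obtain ⟨g, hg⟩ := hb 3 ![1, p, q] ![a, b, c] (by norm_num) fun i j hij => by
    fin_cases i <;> fin_cases j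
    all_goals first
      | exact absurd rfl hij
      | simpa using h01
      | simpa using h02
      | simpa using h12
      | (obtain ⟨g, h1, h2⟩ := h01; exact ⟨g, by simpa using h2, by simpa using h1⟩)
      | (obtain ⟨g, h1, h2⟩ := h02; exact ⟨g, by simpa using h2, by simpa using h1⟩)
      | (obtain ⟨g, h1, h2⟩ := h12; exact ⟨g, by simpa using h2, by simpa using h1⟩)
  exact ⟨g, by simpa using hg 0, by simpa using hg 1, by simpa using hg 2⟩

/-- A product from two conjugates of `H` that lies in `H` splits inside the intersections. -/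
theorem BinR.two {H : Subgroup G} (hb : BinR H) {p q a b c : G} (ha : a ∈ H) (hbm : p⁻¹ * b * p ∈ H)
    (hc : q⁻¹ * c * q ∈ H) (e : b * c = a) :
    ∃ s t, s ∈ H ∧ p⁻¹ * s * p ∈ H ∧ t ∈ H ∧ q⁻¹ * t * q ∈ H ∧ s * t = a := by
  obtain ⟨g, h1, h2, h3⟩ := hb.three p q 1 p (a * q) ⟨1, by simp, by simp⟩ ⟨a, by simpa using ha, by simp⟩
    ⟨b, hbm, by
      rw [← e, show (b * c * q)⁻¹ * b * q = (q⁻¹ * c * q)⁻¹ by group]
      exact inv_mem hc⟩
  have hg : g ∈ H := by simpa using h1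
  refine ⟨g, g⁻¹ * a, hg, h2, mul_mem (inv_mem hg) ha, ?_, by group⟩
  rw [show q⁻¹ * (g⁻¹ * a) * q = ((a * q)⁻¹ * g * q)⁻¹ by group]
  exact inv_mem h3

/-- Pairwise meeting cosets of the three stabilisers have a common element. -/
theorem BinR.coset {H : Subgroup G} (hb : BinR H) {p q z e₂ e₃ : G} (h2 : z⁻¹ * e₂ ∈ H)
    (h2' : p⁻¹ * e₂ * p ∈ H) (h3 : z⁻¹ * e₃ ∈ H) (h3' : q⁻¹ * e₃ * q ∈ H) :
    ∃ g, z⁻¹ * g ∈ H ∧ p⁻¹ * g * p ∈ H ∧ q⁻¹ * g * q ∈ H :=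
  hb.three p q z p q ⟨e₂, h2, h2'⟩ ⟨e₃, h3, h3'⟩ ⟨1, by simp, by simp⟩

/-- The four point configuration. -/
theorem BinR.four {H : Subgroup G} (hb : BinR H) {p d e k l : G} (hkH : k ∈ H)
    (hk : p⁻¹ * k * p ∈ H) (hl : p⁻¹ * l * p ∈ H) (hde : d * l * d⁻¹ * e = k * e * k⁻¹ * l) :
    ∃ g, g ∈ H ∧ p⁻¹ * g * p ∈ H ∧ p⁻¹ * (d⁻¹ * g * d) * p ∈ H ∧
      p⁻¹ * ((k * e * k⁻¹)⁻¹ * g * e) * p ∈ H := by
  set e' := k * e * k⁻¹ with he'
  have w3 : (e' * p)⁻¹ * k * (e * p) ∈ H := by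
    rw [show (e' * p)⁻¹ * k * (e * p) = p⁻¹ * k * p by rw [he']; group]
    exact hk
  have w2 : (d * p)⁻¹ * (d * l * d⁻¹) * (d * p) ∈ H := by
    rw [show (d * p)⁻¹ * (d * l * d⁻¹) * (d * p) = p⁻¹ * l * p by group]
    exact hl
  have w23 : (e' * p)⁻¹ * (d * l * d⁻¹) * (e * p) ∈ H := by
    rw [show (e' * p)⁻¹ * (d * l * d⁻¹) * (e * p) = p⁻¹ * (e'⁻¹ * (d * l * d⁻¹ * e)) * p by group, hde,
      inv_mul_cancel_left]
    exact hl
  let I : Fin 4 → G := ![1, p, d * p, e * p]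
  let J : Fin 4 → G := ![1, p, d * p, e' * p]
  let W : Fin 4 → Fin 4 → G := fun i j =>
    if i = 3 ∨ j = 3 then (if i = 2 ∨ j = 2 then d * l * d⁻¹ else k) else 1
  obtain ⟨g, hg⟩ := hb 4 I J (by norm_num) fun i j hij => ⟨W i j, by
    fin_cases i <;> fin_cases j
    all_goals first
      | exact absurd rfl hij
      | (constructor <;> simp only [I, J, W] <;> first
          | simpa using hkH
          | simpa using hk
          | simpa using w2
          | simpa using w3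
          | simpa using w23
          | simp)⟩
  have h0 := hg 0
  have h1 := hg 1
  have h2 := hg 2
  have h3 := hg 3
  simp only [I, J] at h0 h1 h2 h3
  refine ⟨g, by simpa using h0, by simpa using h1, ?_, ?_⟩
  · rw [show p⁻¹ * (d⁻¹ * g * d) * p = (d * p)⁻¹ * g * (d * p) by group]
    simpa using h2
  · rw [show p⁻¹ * (e'⁻¹ * g * e) * p = (e' * p)⁻¹ * g * (e * p) by group]
    simpa using h3

end Cfsg.Agent.Lib.SuzukiBinary
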