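import Mathlib
import Cfsg.Agent.S2457
import Cfsg.Agent.Lib.SuzukiBinary.Core

/-! Binary coset actions of the Suzuki group: subgroups of a Sylow 2-subgroup. -/

set_option autoImplicit false

namespace Cfsg.Agent.Lib.SuzukiBinary

open Cfsg.Agent.Lib Cfsg.Agent.Lib.Suzuki Cfsg.Agent.Lib.SuzukiSubgroups Cfsg.Agent.Lib.SuzukiSolv
open Cfsg.Agent.Lib.SuzukiClasses
open Cfsg.Agent.S2337 (psi psi_apply psi_theta psi_sq psi_sum one_notMem)

variable {F : Type*} [Field F] [Fintype F] {m : ℕ} (h : Hyp F m)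
include h

/-- The centre of the translation group. -/
def zsub : Subgroup (Cfsg.Sz F m) where
  carrier := {g | ∃ b, g = szT h 0 b}
  one_mem' := ⟨0, (szT_one h).symm⟩
  mul_mem' := by
    rintro _ _ ⟨a, rfl⟩ ⟨b, rfl⟩
    exact ⟨a + b, by rw [szT_mul, add_zero, theta_zero, zero_mul, add_zero]⟩
  inv_mem' := by
    rintro _ ⟨a, rfl⟩
    exact ⟨a, by rw [szT_inv, theta_zero, zero_mul, add_zero]⟩

theorem mem_zsub {g : Cfsg.Sz F m} : g ∈ zsub h ↔ ∃ b, g = szT h 0 b := Iff.rfl

theorem zsub_le : zsub h ≤ transl h := fun _ ⟨b, e⟩ => ⟨0, b, e⟩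

theorem zero_add_mul (x y : F) : szT h 0 x * szT h 0 y = szT h 0 (x + y) := by
  rw [szT_mul, add_zero, theta_zero, zero_mul, add_zero]

theorem zsub_stab {k : Cfsg.Sz F m} (hk : k • ovInf F m = ovInf F m) {g : Cfsg.Sz F m} (hg : g ∈ zsub h) :
    k * g * k⁻¹ ∈ zsub h := by
  obtain ⟨b, rfl⟩ := hg
  obtain ⟨c, d, u, rfl⟩ := eq_szT_szH_of_fix h hk
  exact ⟨_, by rw [SuzukiSylow.conj_szT, mul_zero, theta_zero, mul_zero, zero_mul, add_zero, add_zero]⟩

theorem zconj_eq {a b : Cfsg.Sz F m} (e : a • ovInf F m = b • ovInf F m) {g : Cfsg.Sz F m}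
    (hg : a⁻¹ * g * a ∈ zsub h) : b⁻¹ * g * b ∈ zsub h := by
  have hk : (b⁻¹ * a) • ovInf F m = ovInf F m := by rw [mul_smul, e, inv_smul_smul]
  have := zsub_stab h hk hg
  rwa [show b⁻¹ * a * (a⁻¹ * g * a) * (b⁻¹ * a)⁻¹ = b⁻¹ * g * b by group] at this

theorem mem_transAt_of_zconj {a g : Cfsg.Sz F m} (hg : a⁻¹ * g * a ∈ zsub h) :
    g ∈ transAt h (a • ovInf F m) := by
  rw [transAt_eq h rfl, mem_cmap]
  exact zsub_le h hg

theorem sq_of_zconj {a g : Cfsg.Sz F m} (hg : a⁻¹ * g * a ∈ zsub h) : g * g = 1 := by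
  obtain ⟨b, e⟩ := hg
  have : a⁻¹ * (g * g) * a = 1 := by
    rw [show a⁻¹ * (g * g) * a = (a⁻¹ * g * a) * (a⁻¹ * g * a) by group, e, zero_add_mul, h.add_self, szT_one]
  calc g * g = a * (a⁻¹ * (g * g) * a) * a⁻¹ := by group
    _ = 1 := by rw [this]; group

/-- The centre of a Sylow 2-subgroup gives a binary action. -/
theorem binary_zsub : BinR (zsub h) := by
  intro n I J hn hp
  have hdiff : ∀ {g g' : Cfsg.Sz F m} {i : Fin n}, (J i)⁻¹ * g * I i ∈ zsub h →
      (J i)⁻¹ * g' * I i ∈ zsub h → (I i)⁻¹ * (g⁻¹ * g') * I i ∈ zsub h := fun {g g' i} h1 h2 => by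
    rw [show (I i)⁻¹ * (g⁻¹ * g') * I i = ((J i)⁻¹ * g * I i)⁻¹ * ((J i)⁻¹ * g' * I i) by group]
    exact mul_mem (inv_mem h1) h2
  by_cases hall : ∀ i j : Fin n, I i • ovInf F m = I j • ovInf F m
  · let i₀ : Fin n := ⟨0, by omega⟩
    let i₁ : Fin n := ⟨1, by omega⟩
    obtain ⟨g, h0, h1⟩ := hp i₀ i₁ (by simp [i₀, i₁])
    refine ⟨g, fun k => ?_⟩
    rcases eq_or_ne i₀ k with rfl | hk
    · exact h0
    obtain ⟨g', h0', hk'⟩ := hp i₀ k hk
    have h2 := zconj_eq h (hall i₀ k) (hdiff h0' h0)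
    rw [show (J k)⁻¹ * g * I k = ((J k)⁻¹ * g' * I k) * ((I k)⁻¹ * (g'⁻¹ * g) * I k) by group]
    exact mul_mem hk' h2
  · push Not at hall
    obtain ⟨i, j, hij⟩ := hall
    have hne : i ≠ j := fun e => hij (by rw [e])
    obtain ⟨g, hi, hj⟩ := hp i j hne
    refine ⟨g, fun k => ?_⟩
    rcases eq_or_ne k i with rfl | hki
    · exact hi
    rcases eq_or_ne k j with rfl | hkj
    · exact hj
    obtain ⟨g₁, hi1, hk1⟩ := hp i k hki.symm
    obtain ⟨g₂, hj2, hk2⟩ := hp j k hkj.symm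
    have ha := hdiff hi hi1
    have hb := hdiff hj hj2
    set a := g⁻¹ * g₁ with ha'
    set b := g⁻¹ * g₂ with hb'
    have hab : (I k)⁻¹ * (a⁻¹ * b) * I k ∈ zsub h := by
      rw [show a⁻¹ * b = g₁⁻¹ * g₂ by rw [ha', hb']; group]
      exact hdiff hk1 hk2
    by_cases ha1 : a = 1
    · rwa [inv_mul_eq_one.1 ha1]
    by_cases hb1 : b = 1
    · rwa [inv_mul_eq_one.1 hb1]
    exfalso
    have hai : a⁻¹ = a := inv_eq_of_mul_eq_one_right (sq_of_zconj h ha)
    rw [hai] at hab
    have hc : b * a = a * b := by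
      have h1 := sq_of_zconj h hab
      calc b * a = a⁻¹ * (a * b * (a * b)) * b⁻¹ := by group
        _ = a⁻¹ * b⁻¹ := by rw [h1]; group
        _ = a * b := by rw [hai, inv_eq_of_mul_eq_one_right (sq_of_zconj h hb)]
    have hbi := centralizer_le_transAt h (mem_transAt_of_zconj h ha) ha1
      (Subgroup.mem_centralizer_singleton_iff.2 hc)
    exact hij (eq_of_mem_transAt h (mem_transAt_of_zconj h hb) hb1 (fix_of_mem_transAt h hbi))

/-- Three Sylow 2-subgroups and elements of order 4 in them. -/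
theorem not_binary_four {H : Subgroup (Cfsg.Sz F m)} (hH : H ≤ transl h) (h1 : szT h 1 0 ∈ H) : ¬ BinR H := by
  intro hb
  set A := szT h 1 0 with hA
  set B := szW h * szT h 1 0 * szW h with hB
  have hBm : (szW h)⁻¹ * B * szW h ∈ H := by
    rw [hB, szW_inv]
    convert h1 using 1
    calc szW h * (szW h * szT h 1 0 * szW h) * szW h = (szW h * szW h) * szT h 1 0 * (szW h * szW h) := by group
      _ = szT h 1 0 := by rw [szW_mul_self, one_mul, mul_one]
  have hz : szT h 0 1 ∈ H := by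
    have : A * A ∈ H := mul_mem h1 h1
    rwa [hA, szT_mul, h.add_self, theta_one, mul_one, zero_add, zero_add] at this
  have htr : szTr (A * B) = 0 := by
    rw [hA, hB, szTr_t_wtw, ovFun_eq, one_mul, theta_one, theta_zero]
    linear_combination h.two
  have hBinf : B • ovInf F m ≠ ovInf F m := by
    rw [hB, mul_smul, mul_smul, szW_inf, szT_zero_pt]
    intro e
    have e' := congrArg (szW h • ·) e
    simp only [← mul_smul, szW_mul_self, one_smul, szW_inf] at e'
    exact one_ne_zero (α := F) (ovAff_injective e').1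
  have hB0 : B • ovAff m (0 : F) 0 = ovAff m (0 : F) 0 := by
    rw [hB, mul_smul, mul_smul, szW_zero, szT_inf, szW_inf]
  have hAinf : (A * B) • ovInf F m ≠ ovInf F m := by
    intro e
    refine hBinf ?_
    rw [mul_smul] at e
    exact smul_left_cancel A (e.trans (szT_inf h 1 0).symm)
  have hP0 : (A * B) • ovAff m (0 : F) 0 ≠ ovAff m (0 : F) 0 := by
    rw [mul_smul, hB0, hA, szT_zero_pt]
    exact fun e => one_ne_zero (α := F) (ovAff_injective e).1
  have hP1 : A * B ≠ 1 := fun e => hAinf (by rw [e, one_smul])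
  obtain ⟨r, hr⟩ : ∃ r, A * B ∈ transAt h r := by
    rcases exists_member h hP1 with hp | hU
    · exact hp
    · exact absurd htr (tr_ne_zero h ⟨hP1, hU⟩)
  obtain ⟨k, rfl⟩ := exists_move h r
  have hr' := hr
  rw [transAt_eq h rfl, mem_cmap] at hr'
  obtain ⟨a, b, e⟩ := hr'
  obtain ⟨q, hq⟩ : ∃ q, q⁻¹ * (A * B) * q ∈ H := by
    have hAB : A * B = k * szT h a b * k⁻¹ := by rw [← e]; group
    by_cases ha : a = 0
    · obtain ⟨c, hc⟩ := conj_invol_normal h a b ha fun hb0 => hP1 (by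
        rw [hAB, ha, hb0, szT_one]; group)
      exact ⟨k * c⁻¹, by rw [show (k * c⁻¹)⁻¹ * (A * B) * (k * c⁻¹) = c * szT h a b * c⁻¹ by rw [hAB]; group, hc]; exact hz⟩
    · obtain ⟨c, hc⟩ := conj_four_normal h a b ha
      refine ⟨k * c⁻¹, ?_⟩
      rw [show (k * c⁻¹)⁻¹ * (A * B) * (k * c⁻¹) = c * szT h a b * c⁻¹ by rw [hAB]; group]
      rcases hc with hc | hc <;> rw [hc]
      · exact h1
      · exact inv_mem h1
  -- split the product
  obtain ⟨s, t, hs, hs', ht, ht', hst⟩ := hb.two (p := q) (q := szW h) (a := A) (b := A * B) (c := B⁻¹) h1 hq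
    (by rw [show (szW h)⁻¹ * B⁻¹ * szW h = ((szW h)⁻¹ * B * szW h)⁻¹ by group]; exact inv_mem hBm) (by group)
  have ht1 : t = 1 := by
    by_contra ht1
    refine ovAff_ne_inf (0 : F) 0 (eq_of_mem_transAt h (p := ovInf F m) (g := t) ?_ ht1 ?_)
    · rw [transAt_inf]; exact hH ht
    · have h2 := transl_le_stab h (hH ht')
      have h3 : ((szW h)⁻¹ * t * szW h) • ovInf F m = ovInf F m := h2
      rw [mul_smul, mul_smul, szW_inf, inv_smul_eq_iff, szW_inf] at h3
      exact h3
  have hqr : q • ovInf F m = k • ovInf F m := by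
    refine eq_of_mem_transAt h hr hP1 ?_
    have h2 : (q⁻¹ * (A * B) * q) • ovInf F m = ovInf F m := transl_le_stab h (hH hq)
    rwa [mul_smul, mul_smul, inv_smul_eq_iff] at h2
  have hs1 : s = 1 := by
    by_contra hs1
    refine hAinf ?_
    have h2 : s • (k • ovInf F m) = k • ovInf F m := by
      have h3 : (q⁻¹ * s * q) • ovInf F m = ovInf F m := transl_le_stab h (hH hs')
      rw [mul_smul, mul_smul, inv_smul_eq_iff, hqr] at h3
      exact h3
    have h4 := eq_of_mem_transAt h (p := ovInf F m) (by rw [transAt_inf]; exact hH hs) hs1 h2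
    have h5 := fix_of_mem_transAt h hr
    rwa [h4] at h5
  rw [hs1, ht1, mul_one] at hst
  exact one_ne_zero (α := F) (szT_inj h (hst.symm.trans (szT_one h).symm)).1

theorem exists_scale {μ : F} (hμ : μ ≠ 0) :
    ∃ p : Cfsg.Sz F m, ∀ x, p⁻¹ * szT h 0 x * p = szT h 0 (μ * x) := by
  have hinj : Function.Injective fun v : Fˣ => v ^ 2 * v ^ (2 ^ (m + 1)) := by
    intro v w e
    refine mul_inv_eq_one.1 (Units.ext (h.eq_one_of_theta_mul_sq (v * w⁻¹).ne_zero ?_))
    have e' : (v * w⁻¹) ^ 2 * (v * w⁻¹) ^ (2 ^ (m + 1)) = 1 := by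
      rw [mul_pow, mul_pow, mul_mul_mul_comm, show v ^ 2 * v ^ 2 ^ (m + 1) = w ^ 2 * w ^ 2 ^ (m + 1) from e,
        inv_pow, inv_pow, ← mul_inv, mul_inv_cancel]
    have := congrArg Units.val e'
    rw [Units.val_mul, Units.val_pow_eq_pow_val, Units.val_pow_eq_pow_val, Units.val_one, mul_comm] at this
    exact this
  obtain ⟨v, hv⟩ := Finite.injective_iff_surjective.1 hinj (Units.mk0 μ hμ)
  have hv' : (v : F) ^ 2 * theta m (v : F) = μ := congrArg Units.val hv
  refine ⟨(szH h v)⁻¹, fun x => ?_⟩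
  rw [inv_inv, szH_mul_szT, mul_zero, hv', mul_inv_cancel_right]

open Classical in
theorem card_mul_ann (V : AddSubgroup F) :
    (Finset.univ.filter fun x : F => ∀ b ∈ V, psi h (x * b) = 1).card *
      (Finset.univ.filter fun b : F => b ∈ V).card = Fintype.card F := by
  set U := Finset.univ.filter fun x : F => ∀ b ∈ V, psi h (x * b) = 1
  set S := Finset.univ.filter fun b : F => b ∈ V with hS
  have hz : ∀ x : F, ∑ b ∈ S, psi h (x * b) = if x ∈ U then (S.card : ℂ) else 0 := by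
    intro x
    split_ifs with hx
    · have hx' := (Finset.mem_filter.1 hx).2
      rw [Finset.sum_congr rfl fun b hb => hx' b (Finset.mem_filter.1 hb).2, Finset.sum_const, nsmul_eq_mul,
        mul_one]
    · obtain ⟨b₀, hb₀, hne⟩ : ∃ b₀ ∈ V, psi h (x * b₀) ≠ 1 := by
        simp only [U, Finset.mem_filter, Finset.mem_univ, true_and, not_forall] at hx
        obtain ⟨b₀, hb₀, hne⟩ := hx
        exact ⟨b₀, hb₀, hne⟩
      have e : psi h (x * b₀) * ∑ b ∈ S, psi h (x * b) = ∑ b ∈ S, psi h (x * b) := by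
        rw [Finset.mul_sum]
        refine Finset.sum_equiv (Equiv.addLeft b₀) (fun b => ?_) fun b _ => ?_
        · simp [hS, V.add_mem_cancel_left hb₀]
        · simp [mul_add, AddChar.map_add_eq_mul]
      exact (mul_eq_zero.1 (show (psi h (x * b₀) - 1) * ∑ b ∈ S, psi h (x * b) = 0 by
        linear_combination e)).resolve_left (sub_ne_zero.2 hne)
  have h1 : ∑ b ∈ S, ∑ x : F, psi h (x * b) = (Fintype.card F : ℂ) := by
    rw [Finset.sum_eq_single 0]
    · simp [AddChar.map_zero_eq_one]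
    · intro b _ hb
      rw [Finset.sum_congr rfl fun x _ => by rw [mul_comm x b], psi_sum h b, if_neg hb]
    · exact fun h0 => absurd (Finset.mem_filter.2 ⟨Finset.mem_univ _, V.zero_mem⟩) h0
  rw [Finset.sum_comm, Finset.sum_congr rfl fun x _ => hz x] at h1
  simp only [Finset.sum_ite_mem, Finset.univ_inter, Finset.sum_const, nsmul_eq_mul] at h1
  exact_mod_cast h1

open Classical in
/-- In a small additive subgroup some element is a sum from two translates meeting it trivially. -/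
theorem exists_scalar (S : AddSubgroup F)
    (hS : 2 * (Finset.univ.filter fun b : F => b ∈ S).card ^ 2 ≤ Fintype.card F) {a : F} (ha : a ∈ S)
    (ha0 : a ≠ 0) : ∃ l : F, l ≠ 0 ∧ 1 + l ≠ 0 ∧ (∀ x ∈ S, l * x ∈ S → x = 0) ∧
      (∀ x ∈ S, (1 + l) * x ∈ S → x = 0) := by
  set T := Finset.univ.filter fun b : F => b ∈ S with hT
  let B : Finset F := ((T.erase 0) ×ˢ T).image fun p => p.2 / p.1
  have hB : B.card ≤ (T.card - 1) * T.card := by
    refine Finset.card_image_le.trans ?_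
    rw [Finset.card_product, Finset.card_erase_of_mem (by simp [hT, S.zero_mem])]
  have hmem : ∀ l : F, l ∉ B → ∀ x ∈ S, l * x ∈ S → x = 0 := by
    intro l hl x hx hlx
    by_contra hx0
    refine hl (Finset.mem_image.2 ⟨(x, l * x), ?_, mul_div_cancel_right₀ l hx0⟩)
    simp [hT, hx, hlx, hx0]
  have h0 : ∀ l : F, l ∉ B → l ≠ 0 := fun l hl e => by
    have := hmem l hl a ha (by rw [e, zero_mul]; exact S.zero_mem)
    exact ha0 this
  have hlt : (B ∪ B.image fun b => 1 + b).card < (Finset.univ : Finset F).card := by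
    refine lt_of_le_of_lt ((Finset.card_union_le _ _).trans (Nat.add_le_add hB (Finset.card_image_le.trans hB))) ?_
    rw [Finset.card_univ]
    have hpos : 0 < T.card := Finset.card_pos.2 ⟨0, by simp [hT, S.zero_mem]⟩
    obtain ⟨t, ht⟩ := Nat.exists_eq_succ_of_ne_zero hpos.ne'
    rw [ht] at hS ⊢
    simp only [Nat.succ_sub_succ, tsub_zero]
    nlinarith
  obtain ⟨l, -, hl⟩ := Finset.exists_mem_notMem_of_card_lt_card hlt
  simp only [Finset.mem_union, not_or] at hl
  have hl2 : 1 + l ∉ B := fun e => hl.2 (Finset.mem_image.2 ⟨1 + l, e, by rw [← add_assoc, h.add_self, zero_add]⟩)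
  exact ⟨l, h0 l hl.1, h0 _ hl2, hmem l hl.1, hmem _ hl2⟩

open Classical in
/-- A binary subgroup of the centre is the whole centre. -/
theorem eq_zsub_of_binary {H : Subgroup (Cfsg.Sz F m)} (hH : H ≤ zsub h) (hne : H ≠ ⊥) (hb : BinR H) :
    H = zsub h := by
  let V : AddSubgroup F :=
    { carrier := {b | szT h 0 b ∈ H}
      zero_mem' := by show szT h 0 0 ∈ H; rw [szT_one]; exact one_mem H
      add_mem' := fun {x y} hx hy => by show szT h 0 (x + y) ∈ H; rw [← zero_add_mul]; exact mul_mem hx hy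
      neg_mem' := fun {x} hx => by
        show szT h 0 (-x) ∈ H
        rwa [neg_eq_of_add_eq_zero_right (h.add_self x)] }
  have hV : ∀ b, b ∈ V ↔ szT h 0 b ∈ H := fun b => Iff.rfl
  set S := Finset.univ.filter fun b : F => b ∈ V with hS
  set U := Finset.univ.filter fun x : F => ∀ b ∈ V, psi h (x * b) = 1 with hU
  have hcard : U.card * S.card = Fintype.card F := card_mul_ann h V
  obtain ⟨b₁, hb₁, hb₁0⟩ : ∃ b ∈ V, b ≠ 0 := by
    obtain ⟨g, hg, hg1⟩ := H.bot_or_exists_ne_one.resolve_left hne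
    obtain ⟨b, rfl⟩ := hH hg
    exact ⟨b, hg, fun e => hg1 (by rw [e, szT_one])⟩
  let Us : AddSubgroup F :=
    { carrier := {x | ∀ b ∈ V, psi h (x * b) = 1}
      zero_mem' := fun b _ => by rw [zero_mul, AddChar.map_zero_eq_one]
      add_mem' := fun {x y} hx hy b hb => by rw [add_mul, AddChar.map_add_eq_mul, hx b hb, hy b hb, one_mul]
      neg_mem' := fun {x} hx => by rwa [neg_eq_of_add_eq_zero_right (h.add_self x)] }
  have hUs : (Finset.univ.filter fun b : F => b ∈ Us) = U := Finset.filter_congr fun _ _ => Iff.rfl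
  by_contra hneq
  obtain ⟨z₁, hz₁⟩ : ∃ z, z ∉ V := by
    by_contra hall
    push Not at hall
    exact hneq (le_antisymm hH fun g ⟨b, e⟩ => e ▸ hall b)
  have hUne : ∃ a ∈ Us, a ≠ 0 := by
    by_contra hall
    push Not at hall
    have h1 : U.card ≤ 1 := Finset.card_le_one.2 fun x hx y hy => by
      rw [hall x (Finset.mem_filter.1 hx).2, hall y (Finset.mem_filter.1 hy).2]
    have h2 : S.card < Fintype.card F := by
      rw [← Finset.card_univ]
      exact Finset.card_lt_card ⟨Finset.subset_univ _, fun hss => hz₁ (Finset.mem_filter.1 (hss (Finset.mem_univ z₁))).2⟩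
    have := Nat.mul_le_mul_right S.card h1
    omega
  have hsmall : 2 * S.card ^ 2 ≤ Fintype.card F ∨ 2 * U.card ^ 2 ≤ Fintype.card F := by
    have e := hcard.trans h.hF
    obtain ⟨i, -, hi⟩ := (Nat.dvd_prime_pow Nat.prime_two).1 (⟨S.card, e.symm⟩ : U.card ∣ 2 ^ (2 * m + 1))
    obtain ⟨j, -, hj⟩ := (Nat.dvd_prime_pow Nat.prime_two).1
      (⟨U.card, e.symm.trans (mul_comm _ _)⟩ : S.card ∣ 2 ^ (2 * m + 1))
    rw [hi, hj, ← pow_add] at e
    have e' := Nat.pow_right_injective (le_refl 2) e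
    rw [h.hF, hi, hj]
    rcases Nat.le_or_le i j with hle | hle
    · right
      rw [← pow_mul, ← pow_succ']
      exact Nat.pow_le_pow_right two_pos (by omega)
    · left
      rw [← pow_mul, ← pow_succ']
      exact Nat.pow_le_pow_right two_pos (by omega)
  rcases hsmall with hs | hs
  · obtain ⟨l, hl0, hl1, hsep, hsep'⟩ := exists_scalar h V hs hb₁ hb₁0
    obtain ⟨p, hp⟩ := exists_scale h (inv_ne_zero hl0)
    obtain ⟨q, hq⟩ := exists_scale h (inv_ne_zero hl1)
    obtain ⟨s, t, hs', hsp, ht', htq, hst⟩ := hb.two (p := p) (q := q) (a := szT h 0 b₁) (b := szT h 0 (l * b₁))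
      (c := szT h 0 ((1 + l) * b₁)) hb₁
      (by rw [hp, inv_mul_cancel_left₀ hl0]; exact hb₁) (by rw [hq, inv_mul_cancel_left₀ hl1]; exact hb₁)
      (by rw [zero_add_mul]; congr 1; linear_combination (l * b₁) * h.two)
    obtain ⟨x, rfl⟩ := hH hs'
    obtain ⟨y, rfl⟩ := hH ht'
    rw [hp] at hsp
    rw [hq] at htq
    have hx : l⁻¹ * x = 0 := hsep _ hsp (by rw [mul_inv_cancel_left₀ hl0]; exact hs')
    have hy : (1 + l)⁻¹ * y = 0 := hsep' _ htq (by rw [mul_inv_cancel_left₀ hl1]; exact ht')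
    rw [(mul_eq_zero.1 hx).resolve_left (inv_ne_zero hl0), (mul_eq_zero.1 hy).resolve_left (inv_ne_zero hl1),
      zero_add_mul, add_zero] at hst
    exact hb₁0 (szT_inj h hst).2.symm
  · obtain ⟨a, ha, ha0⟩ := hUne
    obtain ⟨l, hl0, hl1, hsep, hsep'⟩ := exists_scalar h Us (by rw [hUs]; exact hs) ha ha0
    have hdec : ∀ μ : F, μ ≠ 0 → (∀ x ∈ Us, μ * x ∈ Us → x = 0) →
        ∀ z : F, ∃ y, z + y ∈ V ∧ μ * y ∈ V := by
      intro μ hμ hsep z
      let W : AddSubgroup F := V ⊔ V.comap (AddMonoidHom.mulLeft μ)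
      have hc := card_mul_ann h W
      have h1 : (Finset.univ.filter fun x : F => ∀ b ∈ W, psi h (x * b) = 1).card ≤ 1 := by
        refine Finset.card_le_one.2 fun x hx x' hx' => ?_
        have key : ∀ x : F, (∀ b ∈ W, psi h (x * b) = 1) → x = 0 := by
          intro x hx
          have hxU : x ∈ Us := fun b hb => hx b (AddSubgroup.mem_sup_left hb)
          have hxμ : μ⁻¹ * x ∈ Us := fun b hb => by
            have := hx (μ⁻¹ * b) (AddSubgroup.mem_sup_right (show μ * (μ⁻¹ * b) ∈ V by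
              rw [mul_inv_cancel_left₀ hμ]; exact hb))
            rwa [show x * (μ⁻¹ * b) = μ⁻¹ * x * b by ring] at this
          have := hsep _ hxμ (by rw [mul_inv_cancel_left₀ hμ]; exact hxU)
          exact (mul_eq_zero.1 this).resolve_left (inv_ne_zero hμ)
        rw [key x (Finset.mem_filter.1 hx).2, key x' (Finset.mem_filter.1 hx').2]
      have hz : z ∈ W := by
        by_contra hz
        have h2 : (Finset.univ.filter fun b : F => b ∈ W).card < Fintype.card F := by
          rw [← Finset.card_univ]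
          exact Finset.card_lt_card ⟨Finset.subset_univ _, fun hss => hz (Finset.mem_filter.1 (hss (Finset.mem_univ z))).2⟩
        have := Nat.mul_le_mul_right (Finset.univ.filter fun b : F => b ∈ W).card h1
        omega
      obtain ⟨v, hv, y, hy, rfl⟩ := AddSubgroup.mem_sup.1 hz
      exact ⟨y, by rwa [add_assoc, h.add_self, add_zero], hy⟩
    set z₀ := a⁻¹
    obtain ⟨y₂, hy₂, hy₂'⟩ := hdec l hl0 hsep z₀
    obtain ⟨y₃, hy₃, hy₃'⟩ := hdec (1 + l) hl1 hsep' z₀
    obtain ⟨p, hp⟩ := exists_scale h hl0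
    obtain ⟨q, hq⟩ := exists_scale h hl1
    have hzinv : (szT h 0 z₀)⁻¹ = szT h 0 z₀ := by rw [szT_inv, theta_zero, zero_mul, add_zero]
    obtain ⟨g, hg1, hg2, hg3⟩ := hb.coset (p := p) (q := q) (z := szT h 0 z₀) (e₂ := szT h 0 y₂) (e₃ := szT h 0 y₃)
      (by rw [hzinv, zero_add_mul]; exact hy₂) (by rw [hp]; exact hy₂')
      (by rw [hzinv, zero_add_mul]; exact hy₃) (by rw [hq]; exact hy₃')
    obtain ⟨w, hw⟩ : ∃ w, g = szT h 0 w := by
      obtain ⟨c, hc⟩ := hH hg1
      refine ⟨z₀ + c, ?_⟩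
      rw [← zero_add_mul, ← hc, mul_inv_cancel_left]
    subst hw
    rw [hzinv, zero_add_mul] at hg1
    rw [hp] at hg2
    rw [hq] at hg3
    have k1 : psi h (a * (z₀ + w)) = 1 := ha _ hg1
    have k2 : psi h (a * (l * w)) = 1 := ha _ hg2
    have k3 : psi h (a * ((1 + l) * w)) = 1 := ha _ hg3
    rw [show a * ((1 + l) * w) = a * w + a * (l * w) by ring, AddChar.map_add_eq_mul, k2, mul_one] at k3
    rw [mul_add, AddChar.map_add_eq_mul, k3, mul_one, mul_inv_cancel₀ ha0, S2457.psi_one h] at k1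
    norm_num at k1

end Cfsg.Agent.Lib.SuzukiBinary
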