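import Mathlib
import Cfsg.Agent.Lib.SuzukiBinary.Centre
import Cfsg.Agent.Lib.SuzukiSubgroups.Classify

/-! Binary coset actions of the Suzuki group: subgroups meeting a torus. -/

set_option autoImplicit false

namespace Cfsg.Agent.Lib.SuzukiBinary

open Cfsg.Agent.Lib Cfsg.Agent.Lib.Suzuki Cfsg.Agent.Lib.SuzukiSubgroups Cfsg.Agent.Lib.SuzukiSolv
open Cfsg.Agent.Lib.SuzukiClasses

variable {F : Type*} [Field F] [Fintype F] {m : ℕ} (h : Hyp F m)
include h

theorem two_reps_normal {x : Cfsg.Sz F m} (hx : SS h x) (hxz : szT h 0 1 * x * szT h 0 1 = x⁻¹) :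
    ∃ c c', c ≠ c' ∧ IsConj x c ∧ IsConj x c' ∧ c * szT h 0 1 * c⁻¹ = x * szT h 0 1 ∧
      c' * szT h 0 1 * c'⁻¹ = x * szT h 0 1 := by
  set z := szT h 0 1 with hzdef
  have hz2 : z * z = 1 := by rw [hzdef, zero_add_mul, h.add_self, szT_one]
  obtain ⟨hx1, U, hU, hxU⟩ := id hx
  have hnot : x ∉ transl h := fun hmem =>
    hx1 (eq_one_of_mem_transAt_of_mem_cyc h hU (p := ovInf F m) (by rwa [transAt_inf]) hxU)
  have hw2 : (x * z) * (x * z) = 1 := by
    rw [show x * z * (x * z) = x * (z * x * z) by group, hxz, mul_inv_cancel]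
  have hw1 : x * z ≠ 1 := fun e => hnot (by
    rw [eq_inv_of_mul_eq_one_left e]; exact inv_mem (szT_mem_transl h 0 1))
  obtain ⟨c0, hc0⟩ := isConj_iff.1 (S2457.invol_conj h hw2 hw1).symm
  rw [← hzdef] at hc0
  rcases sz_decomp h c0 with ⟨a, b, u, rfl⟩ | ⟨p, r, a, b, u, rfl⟩
  · exfalso
    apply hnot
    rw [hzdef, SuzukiSylow.conj_szT, mul_zero, ← hzdef] at hc0
    rw [show x = x * z * z⁻¹ by group, ← hc0]
    exact mul_mem (szT_mem_transl h _ _) (inv_mem (szT_mem_transl h 0 1))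
  set T₁ := szT h p r
  set H := szH h u
  have key : ∀ p' r' : F, szTr (H * szW h * szT h p' r') = szTr x →
      IsConj x (T₁ * (szW h * szT h p' r' * H) * T₁⁻¹) ∧
      (T₁ * (szW h * szT h p' r' * H) * T₁⁻¹) * z * (T₁ * (szW h * szT h p' r' * H) * T₁⁻¹)⁻¹ = x * z := by
    intro p' r' htr
    refine ⟨conj_of_tr_eq h hx ?_, ?_⟩
    · rw [szTr_conj, ← szTr_conj H (szW h * szT h p' r' * H),
        show H * (szW h * szT h p' r' * H) * H⁻¹ = H * szW h * szT h p' r' by group, htr]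
    rw [← hc0]
    have e1 : T₁⁻¹ * z * T₁ = z := by rw [mul_assoc, ← S2457.center_comm h p r 1, inv_mul_cancel_left]
    set Z := szT h 0 ((u : F) ^ 2 * theta m (u : F))
    have e2 : H * z * H⁻¹ = Z := S2457.szH_center h u
    have e3 : szT h p' r' * Z * (szT h p' r')⁻¹ = Z := by rw [S2457.center_comm, mul_inv_cancel_right]
    have e4 : szT h a b * Z * (szT h a b)⁻¹ = Z := by rw [S2457.center_comm, mul_inv_cancel_right]
    calc (T₁ * (szW h * szT h p' r' * H) * T₁⁻¹) * z * (T₁ * (szW h * szT h p' r' * H) * T₁⁻¹)⁻¹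
        = T₁ * szW h * (szT h p' r' * (H * (T₁⁻¹ * z * T₁) * H⁻¹) * (szT h p' r')⁻¹) * (szW h)⁻¹ * T₁⁻¹ := by
          group
      _ = T₁ * szW h * (szT h a b * (H * z * H⁻¹) * (szT h a b)⁻¹) * (szW h)⁻¹ * T₁⁻¹ := by
          rw [e1, e2, e3, e4]
      _ = _ := by group
  have hu0 := u.ne_zero
  have hut := theta_ne_zero (m := m) u.ne_zero
  obtain ⟨b', hb'⟩ := h.theta_surjective (szTr x * ((u : F) * theta m (u : F)))
  obtain ⟨a₁, b₁, ha₁, t₁, -⟩ := S2457.exists_tr_ne_zero h (tr_ne_zero h hx)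
  obtain ⟨l, hl⟩ := h.theta_surjective (u : F)
  have hl0 : l ≠ 0 := fun e => hu0 (by rw [← hl, e, theta_zero])
  obtain ⟨k1, k1'⟩ := key 0 b' (by
    rw [szTr_hwt, ovFun_eq, theta_zero, hb']
    simp; field_simp)
  obtain ⟨k2, k2'⟩ := key (l * a₁) (l * theta m l * b₁) (by
    rw [szTr_hwt, ← t₁, szTr_wt]
    have e1 : l ^ 2 = theta m (u : F) := by rw [← h.theta_theta, hl]
    have e2 : ovFun m (l * a₁) (l * theta m l * b₁) = (u : F) * theta m (u : F) * ovFun m a₁ b₁ := by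
      simp only [ovFun_eq, theta_mul, h.theta_theta, hl]
      rw [← e1]; ring
    rw [e2, theta_mul, hl]
    field_simp)
  refine ⟨_, _, fun e => ?_, k1, k2, k1', k2'⟩
  have e' : szT h 0 b' = szT h (l * a₁) (l * theta m l * b₁) :=
    mul_left_cancel (mul_right_cancel (mul_left_cancel (mul_right_cancel e)))
  exact mul_ne_zero hl0 ha₁ (szT_inj h e').1.symm

theorem two_reps {x : Cfsg.Sz F m} (hx : SS h x) :
    ∃ i c c', i * i = 1 ∧ i ≠ 1 ∧ i * x * i = x⁻¹ ∧ c ≠ c' ∧ IsConj x c ∧ IsConj x c' ∧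
      c * i * c⁻¹ = x * i ∧ c' * i * c'⁻¹ = x * i := by
  obtain ⟨i, hi, hi1, hix⟩ := S2457.exists_inverting h hx
  obtain ⟨k, hk⟩ := isConj_iff.1 (S2457.invol_conj h hi hi1)
  obtain ⟨c, c', hne, hc, hc', e, e'⟩ := two_reps_normal h (S2457.ss_conj h hx k) (by
    rw [← hk, show k * i * k⁻¹ * (k * x * k⁻¹) * (k * i * k⁻¹) = k * (i * x * i) * k⁻¹ by group, hix]
    group)
  refine ⟨i, k⁻¹ * c * k, k⁻¹ * c' * k, hi, hi1, hix, fun e0 => hne ?_, ?_, ?_, ?_, ?_⟩
  · exact mul_left_cancel (mul_right_cancel e0)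
  · exact ((isConj_iff.2 ⟨k, rfl⟩ : IsConj x (k * x * k⁻¹)).trans hc).trans (isConj_iff.2 ⟨k⁻¹, by group⟩)
  · exact ((isConj_iff.2 ⟨k, rfl⟩ : IsConj x (k * x * k⁻¹)).trans hc').trans (isConj_iff.2 ⟨k⁻¹, by group⟩)
  · rw [← hk] at e
    calc k⁻¹ * c * k * i * (k⁻¹ * c * k)⁻¹ = k⁻¹ * (c * (k * i * k⁻¹) * c⁻¹) * k := by group
      _ = x * i := by rw [e]; group
  · rw [← hk] at e'
    calc k⁻¹ * c' * k * i * (k⁻¹ * c' * k)⁻¹ = k⁻¹ * (c' * (k * i * k⁻¹) * c'⁻¹) * k := by group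
      _ = x * i := by rw [e']; group

omit h in
omit [Fintype F] in
theorem conj_mem {H : Subgroup (Cfsg.Sz F m)} {x c : Cfsg.Sz F m} (hx : x ∈ H) (e : IsConj x c) :
    ∃ p, p⁻¹ * c * p ∈ H := by
  obtain ⟨k, rfl⟩ := isConj_iff.1 e
  exact ⟨k, by rwa [show k⁻¹ * (k * x * k⁻¹) * k = x by group]⟩

theorem odd_order {U : Subgroup (Cfsg.Sz F m)} (hU : CycU h U) {x : Cfsg.Sz F m} (hx : x ∈ U) :
    Odd (orderOf x) := by
  have := SuzukiSylow.finite_Sz h
  exact (odd_card_cyc h hU).of_dvd_nat (Subgroup.orderOf_dvd_natCard U hx)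

theorem eq_one_of_sq {U : Subgroup (Cfsg.Sz F m)} (hU : CycU h U) {x : Cfsg.Sz F m} (hx : x ∈ U)
    (e : x * x = 1) : x = 1 := by
  by_contra h1
  exact invol_not_mem h hU e h1 hx

/-- Subgroups of the cyclic members. -/
theorem not_binary_cyc {H U : Subgroup (Cfsg.Sz F m)} (hU : CycU h U) (hHU : H ≤ U) {x : Cfsg.Sz F m}
    (hxH : x ∈ H) (hx1 : x ≠ 1) : ¬ BinR H := by
  intro hb
  have hxs : SS h x := ⟨hx1, U, hU, hHU hxH⟩
  obtain ⟨i, c₁, c₂, hi, hi1, hix, hne, hc₁, hc₂, e₁, e₂⟩ := two_reps h hxs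
  have hiU : cmap i U = U := by
    refine cyc_eq_of_mem h (cycU_cmap h hU i) hU ⟨x, hHU hxH, ?_⟩ (U.inv_mem (hHU hxH)) (inv_ne_one.2 hx1)
    show i * x * i⁻¹ = x⁻¹
    rw [inv_eq_of_mul_eq_one_right hi, hix]
  have hiN := mem_normalizer_iff_cmap.2 hiU
  have hsqx : ∀ c, c * i * c⁻¹ = x * i → c ∈ U → c * c = x := by
    intro c e hc
    have h1 := invol_inverts h hU hi hi1 hiN (U.inv_mem hc)
    rw [inv_inv] at h1
    calc c * c = c * (i * c⁻¹ * i) := by rw [h1]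
      _ = c * i * c⁻¹ * i := by group
      _ = x := by rw [e, mul_assoc, hi, mul_one]
  obtain ⟨c, hc, e, hcU⟩ : ∃ c, IsConj x c ∧ c * i * c⁻¹ = x * i ∧ c ∉ U := by
    by_cases h1 : c₁ ∈ U
    · refine ⟨c₂, hc₂, e₂, fun h2 => hne ?_⟩
      have es : c₁ * c₁ = c₂ * c₂ := (hsqx _ e₁ h1).trans (hsqx _ e₂ h2).symm
      refine mul_inv_eq_one.1 (eq_one_of_sq h hU (U.mul_mem h1 (U.inv_mem h2)) ?_)
      rw [show c₁ * c₂⁻¹ * (c₁ * c₂⁻¹) = c₁ * (c₂⁻¹ * c₁) * c₂⁻¹ by group,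
        cyc_comm h hU (U.inv_mem h2) h1, show c₁ * (c₁ * c₂⁻¹) * c₂⁻¹ = c₁ * c₁ * (c₂ * c₂)⁻¹ by group, es,
        mul_inv_cancel]
    · exact ⟨c₁, hc₁, e₁, h1⟩
  have hcs : SS h c := ss_of_tr_ne h (by rw [← szTr_isConj hc]; exact tr_ne_zero h hxs)
  set d := i * c⁻¹ * i with hd
  have hcd : c * d = x := by rw [hd, show c * (i * c⁻¹ * i) = c * i * c⁻¹ * i by group, e, mul_assoc, hi, mul_one]
  have hdc : IsConj x d := hc.trans ((S2457.isConj_inv h hcs).trans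
    (isConj_iff.2 ⟨i, by rw [hd, inv_eq_of_mul_eq_one_right hi]⟩))
  have hdU : d ∉ U := fun hdm => hcU (by
    rw [eq_mul_inv_of_mul_eq hcd]; exact U.mul_mem (hHU hxH) (U.inv_mem hdm))
  obtain ⟨p, hp⟩ := conj_mem hxH hc
  obtain ⟨q, hq⟩ := conj_mem hxH hdc
  obtain ⟨s, t, hs, hsp, ht, htq, hst⟩ := hb.two hxH hp hq hcd
  have key : ∀ (p c s : Cfsg.Sz F m), p⁻¹ * c * p ∈ H → c ∉ U → s ∈ H → p⁻¹ * s * p ∈ H → s = 1 := by
    intro p c s hp hcU hs hsp
    by_contra hs1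
    refine hcU ?_
    rw [← cyc_eq_of_mem h (cycU_cmap h hU p) hU (mem_cmap.2 (hHU hsp)) (hHU hs) hs1]
    exact mem_cmap.2 (hHU hp)
  rw [key p c s hp hcU hs hsp, key q d t hq hdU ht htq, one_mul] at hst
  exact hx1 hst.symm

/-- The affine configuration in a torus times a group of scalars. -/
theorem not_binary_split {H : Subgroup (Cfsg.Sz F m)} {p : Cfsg.Sz F m} {u : Fˣ} (hu : u ≠ 1) {d₀ : F}
    (hd : szT h 0 d₀ ∈ H) (hd0 : d₀ ≠ 0) (hk : szH h u ∈ H) (hkp : p⁻¹ * szH h u * p ∈ H)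
    (hD : ∀ g ∈ H, p⁻¹ * g * p ∈ H → g ∈ (szHHom h).range) : ¬ BinR H := by
  intro hb
  set f : Fˣ → F := fun v => (v : F) ^ 2 * theta m (v : F) with hf
  have hconj : ∀ (v : Fˣ) (b : F), szH h v * szT h 0 b * (szH h v)⁻¹ = szT h 0 (f v * b) := fun v b => by
    rw [szH_mul_szT, mul_zero, mul_inv_cancel_right]
  have hff : f u * f u⁻¹ = 1 := by
    simp only [hf, Units.val_inv_eq_inv_val, theta_inv]
    have := u.ne_zero
    have := theta_ne_zero (m := m) u.ne_zero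
    field_simp
  have hfu : f u ≠ 1 := fun e => hu (Units.ext (h.eq_one_of_theta_mul_sq u.ne_zero (by rw [mul_comm]; exact e)))
  set e₀ := d₀ + f u⁻¹ * d₀ with he₀
  have hl : p⁻¹ * szH h (u * u) * p ∈ H := by
    rw [← szH_mul, show p⁻¹ * (szH h u * szH h u) * p = (p⁻¹ * szH h u * p) * (p⁻¹ * szH h u * p) by group]
    exact mul_mem hkp hkp
  have hfe : f u * e₀ = d₀ + f u * d₀ := by rw [he₀]; linear_combination d₀ * hff
  obtain ⟨g, hg, hgp, hgd, hge⟩ := hb.four (p := p) (d := szT h 0 d₀) (e := szT h 0 e₀) (k := szH h u)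
    (l := szH h (u * u)) hk hkp hl (by
      have e1 : (szT h 0 d₀)⁻¹ = szT h 0 d₀ := by rw [szT_inv, theta_zero, zero_mul, add_zero]
      rw [hconj, e1, mul_assoc _ (szT h 0 d₀) (szT h 0 e₀), zero_add_mul, mul_assoc, szH_mul_szT, mul_zero,
        ← mul_assoc, zero_add_mul, hfe]
      congr 2
      simp only [hf] at hff ⊢
      simp only [Units.val_mul, theta_mul]
      rw [he₀]
      simp only [hf, Units.val_inv_eq_inv_val] at *
      linear_combination ((u : F) ^ 2 * theta m (u : F) * d₀) * hff +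
        ((u : F) ^ 4 * theta m (u : F) ^ 2 * d₀) * h.two)
  have h1 := hD g hg hgp
  have h2 := hD _ (mul_mem (mul_mem (inv_mem hd) hg) hd) hgd
  have hg1 : g = 1 := by
    obtain ⟨v, hv⟩ := h1
    obtain ⟨v', hv'⟩ := h2
    have h3 : ((szT h 0 d₀)⁻¹ * g * szT h 0 d₀) • ovAff m (0 : F) 0 = ovAff m (0 : F) 0 := by
      rw [← hv']; exact szH_zero_pt h v'
    rw [mul_smul, mul_smul, szT_zero_pt, inv_smul_eq_iff, szT_zero_pt] at h3
    refine eq_one_of_fix_three h (ovAff_ne_inf (0 : F) 0).symm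
      (fun e => hd0 (ovAff_injective e).2.symm) (ovAff_ne_inf (0 : F) d₀).symm ?_ ?_ h3
    · rw [← hv]; exact szH_inf h v
    · rw [← hv]; exact szH_zero_pt h v
  rw [hg1, mul_one, hconj] at hge
  have he : szT h 0 e₀ ∈ H := by
    have e1 : szT h 0 (f u⁻¹ * d₀) ∈ H := by
      rw [← hconj, ← szH_inv, inv_inv]
      exact mul_mem (mul_mem (inv_mem hk) hd) hk
    rw [he₀, ← zero_add_mul]; exact mul_mem hd e1
  have hmem : (szT h 0 (f u * e₀))⁻¹ * szT h 0 e₀ ∈ H := by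
    refine mul_mem (inv_mem ?_) he
    rw [← hconj]; exact mul_mem (mul_mem hk he) (inv_mem hk)
  have h4 := eq_one_of_split_transl h (hD _ hmem hge)
    (mul_mem (inv_mem (szT_mem_transl h _ _)) (szT_mem_transl h _ _))
  have h5 := (szT_inj h (inv_mul_eq_one.1 h4)).2
  rw [hfe] at h5
  rw [he₀] at h5
  have h6 : (f u + f u⁻¹) * d₀ = 0 := by linear_combination h5 + (f u⁻¹ * d₀) * h.two
  have h7 : f u + f u⁻¹ = 0 := (mul_eq_zero.1 h6).resolve_right hd0
  have h8 : f u ^ 2 = 1 := by linear_combination f u * h7 - hff + (0 : F) * h.two - (1 : F) * h.two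
  have := h.charP
  exact hfu (frobenius_inj F 2 (by simpa [frobenius_def] using h8))

/-- Subgroups of the normaliser of a cyclic member. -/
theorem not_binary_normalizer {H U : Subgroup (Cfsg.Sz F m)} (hU : CycU h U)
    (hHN : H ≤ Subgroup.normalizer (U : Set (Cfsg.Sz F m))) {x : Cfsg.Sz F m} (hxH : x ∈ H) (hxU : x ∈ U)
    (hx1 : x ≠ 1) (hnot : ¬ H ≤ U) : ¬ BinR H := by
  intro hb
  have := SuzukiSylow.finite_Sz h
  have hconjU : ∀ p s : Cfsg.Sz F m, cmap p U ≠ U → s ∈ U → p⁻¹ * s * p ∈ H → s = 1 := by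
    intro p s hne hs hsp
    by_contra hs1
    refine hne (mem_of_odd_normalizer h (cycU_cmap h hU p) hU ?_ hs hs1)
    rw [show Subgroup.normalizer (cmap p U : Set (Cfsg.Sz F m)) =
        cmap p (Subgroup.normalizer (U : Set (Cfsg.Sz F m))) from
        (Subgroup.map_equiv_normalizer_eq U (MulAut.conj p)).symm]
    exact mem_cmap.2 (hHN hsp)
  by_cases h4 : ∃ y ∈ H, orderOf y = 4
  · obtain ⟨y, hyH, hy⟩ := h4
    have hy4 : y ^ 4 = 1 := orderOf_dvd_iff_pow_eq_one.1 (by rw [hy])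
    set i := y * y with hi'
    have hi : i * i = 1 := by
      rw [hi', show y * y * (y * y) = y ^ 4 by simp [pow_succ, mul_assoc]]; exact hy4
    have hi1 : i ≠ 1 := fun e => by
      have := orderOf_dvd_of_pow_eq_one (x := y) (n := 2) (by rw [sq]; exact e)
      rw [hy] at this; norm_num at this
    have hyU : y ∉ U := fun hm => by
      have := odd_order h hU hm
      rw [hy] at this; revert this; decide
    have hinv : ∀ u ∈ U, i * u * i = u⁻¹ := fun u hu => invol_inverts h hU hi hi1 (hHN (mul_mem hyH hyH)) hu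
    set e' := y * x * y⁻¹ with he'
    have he'U : e' ∈ U := (Subgroup.mem_normalizer_iff.1 (hHN hyH) x).1 hxU
    obtain ⟨d, hdU, hdH, hd⟩ : ∃ d, d ∈ U ∧ d ∈ H ∧ d * d = x * e' := by
      obtain ⟨j, hj⟩ := exists_pow_eq_self_of_coprime (x := x * e') (n := 2)
        (Nat.coprime_two_left.2 (odd_order h hU (U.mul_mem hxU he'U)))
      refine ⟨(x * e') ^ j, U.pow_mem (U.mul_mem hxU he'U) j,
        pow_mem (mul_mem hxH (mul_mem (mul_mem hyH hxH) (inv_mem hyH))) j, ?_⟩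
      rw [← pow_two, ← pow_mul, mul_comm, pow_mul]; exact hj
    have hd1 : d ≠ 1 := by
      intro e
      rw [e, mul_one] at hd
      have h1 : y * x * y⁻¹ = x⁻¹ := (inv_eq_of_mul_eq_one_right hd.symm).symm
      have h2 : y * (y * x * y⁻¹) * y⁻¹ = x := by
        rw [h1, show y * x⁻¹ * y⁻¹ = (y * x * y⁻¹)⁻¹ by group, h1, inv_inv]
      rw [show y * (y * x * y⁻¹) * y⁻¹ = i * x * i⁻¹ by rw [hi']; group, inv_eq_of_mul_eq_one_right hi,
        hinv x hxU] at h2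
      exact hx1 (eq_one_of_sq h hU hxU (by nth_rw 1 [← h2]; exact inv_mul_cancel x))
    obtain ⟨r, hr⟩ := exists_point h (g := y) (by rw [hy])
    obtain ⟨k, rfl⟩ := exists_move h r
    rw [transAt_eq h rfl, mem_cmap] at hr
    obtain ⟨ya, yb, ey⟩ := hr
    obtain ⟨p, hpy, hpU⟩ : ∃ p, p * y = y * p ∧ cmap p U ≠ U := by
      by_contra hall
      push Not at hall
      have hz : ∀ β, k * szT h 0 β * k⁻¹ ∈ Subgroup.normalizer (U : Set (Cfsg.Sz F m)) := fun β => by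
        refine mem_normalizer_iff_cmap.2 (hall _ ?_)
        rw [show y = k * szT h ya yb * k⁻¹ by rw [← ey]; group]
        rw [show k * szT h 0 β * k⁻¹ * (k * szT h ya yb * k⁻¹) = k * (szT h 0 β * szT h ya yb) * k⁻¹ by group,
          ← S2457.center_comm h ya yb β]
        group
      obtain ⟨c₀, hc₀⟩ := h.exists_theta_ne
      have hc1 : c₀ ≠ 1 := fun e => hc₀ (by rw [e, theta_one])
      have hc2 : c₀ ≠ 0 := fun e => hc₀ (by rw [e, theta_zero])
      have hne0 : ∀ β : F, β ≠ 0 → k * szT h 0 β * k⁻¹ ≠ 1 := fun β hβ e => hβ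
        (szT_inj h ((conj_eq_one_iff.1 e).trans (szT_one h).symm)).2
      have hsq : ∀ β : F, k * szT h 0 β * k⁻¹ * (k * szT h 0 β * k⁻¹) = 1 := fun β => by
        rw [show k * szT h 0 β * k⁻¹ * (k * szT h 0 β * k⁻¹) = k * (szT h 0 β * szT h 0 β) * k⁻¹ by group,
          zero_add_mul, h.add_self, szT_one]; group
      have hm := invol_coset h hU (hsq 1) (hne0 1 one_ne_zero) (hz 1) (hsq c₀) (hne0 c₀ hc2) (hz c₀)
      rw [show k * szT h 0 1 * k⁻¹ * (k * szT h 0 c₀ * k⁻¹) = k * (szT h 0 1 * szT h 0 c₀) * k⁻¹ by group,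
        zero_add_mul] at hm
      refine hne0 (1 + c₀) (fun e => hc1 (by linear_combination e - h.two))
        (eq_one_of_mem_transAt_of_mem_cyc h hU (p := k • ovInf F m) ?_ hm)
      rw [transAt_eq h rfl, mem_cmap]
      exact ⟨0, 1 + c₀, by group⟩
    have hky : p⁻¹ * y * p = y := by rw [mul_assoc, ← hpy, inv_mul_cancel_left]
    have hli : p⁻¹ * i * p = i := by
      rw [hi', show p⁻¹ * (y * y) * p = (p⁻¹ * y * p) * (p⁻¹ * y * p) by group, hky]
    obtain ⟨g, hg, hgp, hgd, hge⟩ := hb.four (p := p) (d := d) (e := x) (k := y) (l := i) hyH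
      (by rw [hky]; exact hyH) (by rw [hli]; exact mul_mem hyH hyH) (by
        have h1 := hinv (d⁻¹ * x) (U.mul_mem (U.inv_mem hdU) hxU)
        calc d * i * d⁻¹ * x = d * (i * (d⁻¹ * x) * i) * i⁻¹ := by group
          _ = d * (d⁻¹ * x)⁻¹ * i := by rw [h1, inv_eq_of_mul_eq_one_right hi]
          _ = x⁻¹ * (d * d) * i := by
            rw [show d * (d⁻¹ * x)⁻¹ = d * x⁻¹ * d by group, cyc_comm h hU hdU (U.inv_mem hxU)]; group
          _ = e' * i := by rw [hd, inv_mul_cancel_left])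
    have hg1 : g = 1 := by
      have hq : g⁻¹ * (d⁻¹ * g * d) ∈ U := by
        rw [show g⁻¹ * (d⁻¹ * g * d) = (g⁻¹ * d⁻¹ * g⁻¹⁻¹) * d by group]
        exact U.mul_mem ((Subgroup.mem_normalizer_iff.1 (hHN (inv_mem hg)) _).1 (U.inv_mem hdU)) hdU
      have hq1 := hconjU p _ hpU hq (by
        rw [show p⁻¹ * (g⁻¹ * (d⁻¹ * g * d)) * p = (p⁻¹ * g * p)⁻¹ * (p⁻¹ * (d⁻¹ * g * d) * p) by group]
        exact mul_mem (inv_mem hgp) hgd)
      have hc : g * d = d * g := by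
        calc g * d = d * (d⁻¹ * g * d) := by group
          _ = d * g := by rw [← inv_mul_eq_one.1 hq1]
      refine hconjU p g hpU ?_ hgp
      rw [← cyc_centralizer h hU hdU hd1, Subgroup.mem_centralizer_singleton_iff]
      exact hc
    rw [hg1, mul_one] at hge
    have h9 := hconjU p _ hpU (U.mul_mem (U.inv_mem he'U) hxU) hge
    refine hyU ?_
    rw [← cyc_centralizer h hU hxU hx1, Subgroup.mem_centralizer_singleton_iff]
    calc y * x = y * x * y⁻¹ * y := by group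
      _ = x * y := by rw [← he', inv_mul_eq_one.1 h9]
  · push Not at h4
    have hinvol : ∀ y ∈ H, y ∉ U → y * y = 1 ∧ y ≠ 1 := by
      intro y hy hyU
      have hy1 : y ≠ 1 := fun e => hyU (e ▸ U.one_mem)
      refine ⟨?_, hy1⟩
      have hy4 : y ^ 4 = 1 := (mem_or_pow_four h hU (hHN hy)).resolve_left hyU
      obtain ⟨j, hj, e⟩ := (Nat.dvd_prime_pow (m := 2) Nat.prime_two).1 (orderOf_dvd_of_pow_eq_one hy4)
      interval_cases j
      · exact absurd (orderOf_eq_one_iff.1 (by simpa using e)) hy1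
      · rw [← sq, orderOf_dvd_iff_pow_eq_one.1 (by rw [e]; norm_num : orderOf y ∣ 2)]
      · exact absurd (by simpa using e) (h4 y hy)
    obtain ⟨i, hiH, hiU⟩ : ∃ i ∈ H, i ∉ U := by
      by_contra hc
      push Not at hc
      exact hnot hc
    obtain ⟨hi, hi1⟩ := hinvol i hiH hiU
    have hxs : SS h x := ⟨hx1, U, hU, hxU⟩
    obtain ⟨b, c, hbx, hcx, hbc⟩ : S2457.Sq x i := by
      refine S2457.sq_conj (S2457.invol_conj h hi hi1).symm (S2457.sq_ss_two h hxs fun e => ?_)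
      exact one_ne_zero (α := F) (szT_inj h (e.trans (szT_one h).symm)).2
    have hbs : SS h b := ss_of_tr_ne h (by rw [← szTr_isConj hbx]; exact tr_ne_zero h hxs)
    have hcs : SS h c := ss_of_tr_ne h (by rw [← szTr_isConj hcx]; exact tr_ne_zero h hxs)
    have hodd : ∀ c, SS h c → c * c ≠ 1 := fun c ⟨hc1, V, hV, hcV⟩ e => hc1 (eq_one_of_sq h hV hcV e)
    obtain ⟨p, hp⟩ := isConj_iff.1 hbx
    obtain ⟨q, hq⟩ := isConj_iff.1 hcx
    have hbm : p⁻¹ * b * p = x := by rw [← hp]; group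
    have hcm : q⁻¹ * c * q = x := by rw [← hq]; group
    -- if the involution normalises the torus of a factor, the other factor is an involution
    have hinvb : ∀ p b c, p⁻¹ * b * p = x → b * c = i → p⁻¹ * i * p ∈ H → c * c = 1 := by
      intro p b c hbm hbc hip
      have hiN : i ∈ Subgroup.normalizer (cmap p U : Set (Cfsg.Sz F m)) := by
        rw [show Subgroup.normalizer (cmap p U : Set (Cfsg.Sz F m)) =
          cmap p (Subgroup.normalizer (U : Set (Cfsg.Sz F m))) from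
          (Subgroup.map_equiv_normalizer_eq U (MulAut.conj p)).symm]
        exact mem_cmap.2 (hHN hip)
      have h1 := invol_inverts h (cycU_cmap h hU p) hi hi1 hiN (mem_cmap.2 (show p⁻¹ * b⁻¹ * p ∈ U by
        rw [show p⁻¹ * b⁻¹ * p = (p⁻¹ * b * p)⁻¹ by group, hbm]; exact U.inv_mem hxU))
      rw [inv_inv] at h1
      rw [eq_inv_mul_of_mul_eq hbc, show b⁻¹ * i * (b⁻¹ * i) = b⁻¹ * (i * b⁻¹ * i) by group, h1, inv_mul_cancel]
    obtain ⟨s, t, hs, hsp, ht, htq, hst⟩ := hb.two hiH (show p⁻¹ * b * p ∈ H by rw [hbm]; exact hxH)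
      (show q⁻¹ * c * q ∈ H by rw [hcm]; exact hxH) hbc
    have hU1 : cmap p U ≠ U := fun e => by
      have hbU : b ∈ U := e ▸ mem_cmap.2 (show p⁻¹ * b * p ∈ U by rw [hbm]; exact hxU)
      refine hodd c hcs ?_
      have h1 := invol_inverts h hU hi hi1 (hHN hiH) (U.inv_mem hbU)
      rw [inv_inv] at h1
      rw [eq_inv_mul_of_mul_eq hbc, show b⁻¹ * i * (b⁻¹ * i) = b⁻¹ * (i * b⁻¹ * i) by group, h1, inv_mul_cancel]
    by_cases hs1 : s = 1
    · -- the involution normalises the torus of `c`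
      rw [hs1, one_mul] at hst
      rw [hst] at htq
      refine hodd b hbs ?_
      have h1 := hinvb q c (i⁻¹ * b * i) hcm (by rw [← hbc]; group) htq
      calc b * b = i * ((i⁻¹ * b * i) * (i⁻¹ * b * i)) * i⁻¹ := by group
        _ = 1 := by rw [h1]; group
    by_cases ht1 : t = 1
    · rw [ht1, mul_one] at hst
      rw [hst] at hsp
      exact hodd c hcs (hinvb p b c hbm hbc hsp)
    have hsU : s ∉ U := fun hm => hs1 (hconjU p s hU1 hm hsp)
    by_cases htU : t ∈ U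
    · obtain ⟨hss, -⟩ := hinvol s hs hsU
      have hqU : cmap q U = U := by
        by_contra hne
        exact ht1 (hconjU q t hne htU htq)
      have hcU : c ∈ U := hqU ▸ mem_cmap.2 (show q⁻¹ * c * q ∈ U by rw [hcm]; exact hxU)
      refine hodd b hbs ?_
      have h1 := invol_inverts h hU hi hi1 (hHN hiH) (U.inv_mem hcU)
      rw [inv_inv] at h1
      rw [eq_mul_inv_of_mul_eq hbc, show i * c⁻¹ * (i * c⁻¹) = i * c⁻¹ * i * c⁻¹ by group, h1, mul_inv_cancel]
    · obtain ⟨hss, hs1'⟩ := hinvol s hs hsU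
      obtain ⟨htt, ht1'⟩ := hinvol t ht htU
      refine hiU ?_
      rw [← hst]
      exact invol_coset h hU hss hs1' (hHN hs) htt ht1' (hHN ht)

end Cfsg.Agent.Lib.SuzukiBinary
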